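import Groth.Prelude.Def_Conn
import Mathlib.Algebra.Polynomial.Derivative
import Mathlib.Algebra.CharP.Basic
import Mathlib.Algebra.CharP.Invertible
import Mathlib.Data.Nat.Choose.Dvd
import Mathlib.Data.Nat.Prime.Factorial
import Mathlib.RingTheory.Derivation.Basic

/-!
# Iterates of derivations and of connections along a multiple of a derivation
-/

universe v u w

namespace Groth.Agent.H84Conn

open Polynomial Finset

theorem iterate_leibniz {R : Type*} [CommRing R] (δ : R → R) (h0 : ∀ x y, δ (x + y) = δ x + δ y)
    (hm : ∀ x y, δ (x * y) = x * δ y + δ x * y) :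
    ∀ (n : ℕ) (x y : R), δ^[n] (x * y) = ∑ i ∈ range (n + 1), (n.choose i : R) * (δ^[i] x * δ^[n - i] y) := by
  let D : R →+ R := AddMonoidHom.mk' δ h0
  intro n
  induction n with
  | zero => intro x y; simp
  | succ n ih =>
    intro x y
    rw [Function.iterate_succ_apply', ih]
    change D _ = _
    rw [map_sum]
    have hterm : ∀ i ∈ range (n + 1), D ((n.choose i : R) * (δ^[i] x * δ^[n - i] y)) =
        (n.choose i : R) * (δ^[i + 1] x * δ^[n - i] y) + (n.choose i : R) * (δ^[i] x * δ^[n + 1 - i] y) := by
      intro i hi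
      rw [← nsmul_eq_mul, map_nsmul, nsmul_eq_mul]
      change _ * δ _ = _
      have : n + 1 - i = n - i + 1 := by have := Finset.mem_range.1 hi; omega
      rw [hm, this, Function.iterate_succ_apply', Function.iterate_succ_apply']
      ring
    rw [sum_congr rfl hterm, sum_add_distrib, sum_range_succ' _ (n + 1)]
    have h1 : ∀ i ∈ range (n + 1), ((n + 1).choose (i + 1) : R) * (δ^[i + 1] x * δ^[n + 1 - (i + 1)] y) =
        (n.choose i : R) * (δ^[i + 1] x * δ^[n - i] y) +
          (n.choose (i + 1) : R) * (δ^[i + 1] x * δ^[n + 1 - (i + 1)] y) := by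
      intro i hi
      rw [Nat.choose_succ_succ', Nat.cast_add, show n + 1 - (i + 1) = n - i by omega]
      ring
    rw [sum_congr rfl h1, sum_add_distrib, add_assoc]
    congr 1
    have h2 := sum_range_succ' (fun i => (n.choose i : R) * (δ^[i] x * δ^[n + 1 - i] y)) (n + 1)
    rw [sum_range_succ (fun i => (n.choose i : R) * (δ^[i] x * δ^[n + 1 - i] y)) (n + 1), Nat.choose_succ_self,
      Nat.cast_zero, zero_mul, add_zero] at h2
    simp only [Nat.choose_zero_right, Nat.cast_one] at h2 ⊢
    exact h2

variable (p : ℕ) [Fact p.Prime]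

theorem iterate_prime_mul {R : Type*} [CommRing R] [CharP R p] (δ : R → R) (h0 : ∀ x y, δ (x + y) = δ x + δ y)
    (hm : ∀ x y, δ (x * y) = x * δ y + δ x * y) (x y : R) : δ^[p] (x * y) = x * δ^[p] y + δ^[p] x * y := by
  have hp : p.Prime := Fact.out
  rw [iterate_leibniz δ h0 hm p x y, sum_range_succ, sum_eq_single 0]
  · simp
  · intro i hi h
    rw [Finset.mem_range] at hi
    rw [(CharP.cast_eq_zero_iff R p _).2 (hp.dvd_choose_self h hi), zero_mul]
  · intro h; simp [hp.pos] at h

/-- The `p`-fold iterate of a derivation, as a derivation. -/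
def derivPow {A : Type v} {B : Type u} [CommRing A] [CommRing B] [Algebra A B] [CharP B p] (δ : Derivation A B B) :
    Derivation A B B :=
  Derivation.mk'
    { toFun := (⇑δ)^[p]
      map_add' := fun x y => iterate_map_add δ p x y
      map_smul' := fun a x => by
        induction p generalizing x with
        | zero => rfl
        | succ n ih => simp only [Function.iterate_succ_apply', RingHom.id_apply] at ih ⊢; rw [ih, δ.map_smul] }
    fun x y => by
      change (⇑δ)^[p] (x * y) = x * (⇑δ)^[p] y + y * (⇑δ)^[p] x
      rw [iterate_prime_mul p δ (fun a b => map_add δ a b) (fun a b => by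
        rw [δ.leibniz, smul_eq_mul, smul_eq_mul, mul_comm b]), mul_comm y]

theorem derivPow_apply {A : Type v} {B : Type u} [CommRing A] [CommRing B] [Algebra A B] [CharP B p]
    (δ : Derivation A B B) (x : B) : derivPow p δ x = (⇑δ)^[p] x := rfl

section coef

variable {B : Type u} [CommRing B] (b : B) (δ : B → B)

/-- The coefficients of `(b D)^n` in the powers of `D`. -/
def coef : ℕ → ℕ → B
  | 0, 0 => 1
  | 0, _ + 1 => 0
  | n + 1, 0 => b * δ (coef n 0)
  | n + 1, i + 1 => b * δ (coef n (i + 1)) + b * coef n i

theorem coef_eq_zero (hδ : δ 0 = 0) : ∀ n i, n < i → coef b δ n i = 0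
  | 0, i + 1, _ => rfl
  | n + 1, i + 1, h => by
    rw [coef, coef_eq_zero hδ n (i + 1) (by omega), coef_eq_zero hδ n i (by omega), hδ]
    simp

theorem iterate_smul_eq_sum {N : Type w} [AddCommGroup N] [Module B N] (D : N → N)
    (hadd : ∀ x y, D (x + y) = D x + D y) (hsmul : ∀ (c : B) (x : N), D (c • x) = δ c • x + c • D x)
    (hδ : δ 0 = 0) : ∀ (n : ℕ) (x : N), (fun y => b • D y)^[n] x = ∑ i ∈ range (n + 1), coef b δ n i • D^[i] x := by
  intro n
  induction n with
  | zero => intro x; simp [coef]
  | succ n ih =>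
    intro x
    rw [Function.iterate_succ_apply', ih]
    let D' : N →+ N := AddMonoidHom.mk' D hadd
    change b • D' _ = _
    rw [map_sum, smul_sum]
    have hterm : ∀ i ∈ range (n + 1), b • D' (coef b δ n i • D^[i] x) =
        (b * δ (coef b δ n i)) • D^[i] x + (b * coef b δ n i) • D^[i + 1] x := by
      intro i _
      change b • D _ = _
      rw [hsmul, smul_add, smul_smul, smul_smul, Function.iterate_succ_apply']
    rw [sum_congr rfl hterm, sum_add_distrib, sum_range_succ' (fun i => coef b δ (n + 1) i • D^[i] x) (n + 1)]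
    simp only [coef, add_smul, sum_add_distrib]
    rw [add_right_comm]
    congr 1
    rw [sum_range_succ' (fun i => (b * δ (coef b δ n i)) • D^[i] x) n,
      sum_range_succ (fun i => (b * δ (coef b δ n (i + 1))) • D^[i + 1] x) n,
      coef_eq_zero b δ hδ n (n + 1) (by omega), hδ]
    simp

end coef

theorem coef_middle {A : Type v} {B : Type u} [CommRing A] [CommRing B] [Algebra A B] [CharP B p] (b : B)
    (δ : Derivation A B B) : ∀ i, i < p → i ≠ 1 → coef b δ p i = 0 := by
  classical
  have hp : p.Prime := Fact.out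
  let c : B[X] → B[X] := fun f => f.sum fun i a => monomial i (δ a)
  have hc : ∀ f i, (c f).coeff i = δ (f.coeff i) := fun f i => by
    simp only [c, Polynomial.sum_def, finsetSum_coeff, coeff_monomial, sum_ite_eq', mem_support_iff]
    by_cases h : f.coeff i = 0 <;> simp [h]
  have hcadd : ∀ f g, c (f + g) = c f + c g := fun f g => by ext i; simp [hc]
  have hcmul : ∀ f g, c (f * g) = f * c g + c f * g := fun f g => by
    ext i
    simp only [hc, coeff_mul, map_sum, coeff_add, ← sum_add_distrib, δ.leibniz, smul_eq_mul]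
    refine sum_congr rfl fun z _ => ?_
    ring
  let E : B[X] → B[X] := fun f => c f + derivative f
  have hEadd : ∀ f g, E (f + g) = E f + E g := fun f g => by simp only [E, hcadd, map_add]; ring
  have hEmul : ∀ f g, E (f * g) = f * E g + E f * g := fun f g => by simp only [E, hcmul, derivative_mul]; ring
  have hEC : ∀ a, E (C a) = C (δ a) := fun a => by
    simp only [E, derivative_C, add_zero]; ext i; rw [hc, coeff_C, coeff_C]; split_ifs <;> simp
  have hEsmul : ∀ (a : B) (f : B[X]), E (a • f) = δ a • f + a • E f := fun a f => by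
    simp only [smul_eq_C_mul, hEmul, hEC]; ring
  have hEX : E X = 1 := by
    simp only [E, derivative_X]
    rw [add_eq_right]
    ext i; rw [hc, coeff_X]; split_ifs <;> simp
  have hcX : ∀ j : ℕ, c (X ^ j) = 0 := fun j => by ext i; rw [hc, coeff_X_pow]; split_ifs <;> simp
  have hEC' : ∀ n : ℕ, E (n : B[X]) = 0 := fun n => by rw [← C_eq_natCast, hEC]; simp
  have hEpow : ∀ i j : ℕ, E^[i] (X ^ j) = (j.descFactorial i : B[X]) * X ^ (j - i) := by
    intro i
    induction i with
    | zero => intro j; simp
    | succ i ih =>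
      intro j
      rw [Function.iterate_succ_apply', ih, hEmul, hEC', zero_mul, add_zero, Nat.descFactorial_succ, Nat.cast_mul]
      simp only [E, hcX, zero_add, derivative_X_pow, map_natCast, Nat.sub_sub]
      ring
  let F : B[X] → B[X] := fun f => b • E f
  have hF := iterate_prime_mul p F (fun f g => by simp only [F, hEadd, smul_add])
    (fun f g => by simp only [F, hEmul, smul_eq_C_mul]; ring)
  intro i hi hi1
  have hkey := iterate_smul_eq_sum b δ E hEadd hEsmul δ.map_zero p (X ^ i)
  have hlhs : (F^[p] (X ^ i : B[X])).coeff 0 = 0 := by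
    have h1 : F^[p] 1 = 0 := by
      have := hF 1 1
      rw [one_mul, one_mul, mul_one] at this
      exact (left_eq_add.1 this)
    match i, hi1 with
    | 0, _ => simp [h1]
    | 1, h => exact absurd rfl h
    | i + 2, _ =>
      rw [show (X : B[X]) ^ (i + 2) = X * X ^ (i + 1) from pow_succ' _ _, hF, coeff_add, mul_coeff_zero, mul_coeff_zero,
        coeff_X_zero, coeff_X_pow]
      simp
  have hrhs : (∑ j ∈ range (p + 1), coef b δ p j • E^[j] (X ^ i : B[X])).coeff 0 = coef b δ p i * (i.factorial : B) := by
    rw [finsetSum_coeff, sum_eq_single i]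
    · rw [coeff_smul, hEpow, Nat.descFactorial_self, Nat.sub_self, pow_zero, mul_one, coeff_natCast_ite, smul_eq_mul]
      simp
    · intro j _ hj
      rw [coeff_smul, hEpow]
      rcases lt_or_gt_of_ne hj with h | h
      · rw [← C_eq_natCast, coeff_C_mul, coeff_X_pow, if_neg (by omega), mul_zero, smul_zero]
      · rw [Nat.descFactorial_of_lt h, Nat.cast_zero, zero_mul, coeff_zero, smul_zero]
    · intro h; simp at h; omega
  have h0 : coef b δ p i * (i.factorial : B) = 0 := by rw [← hrhs, ← hkey]; exact hlhs
  have hu : IsUnit (i.factorial : B) := by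
    exact (CharP.isUnit_natCast_iff hp).2 fun h => absurd ((hp.dvd_factorial).1 h) (by omega)
  exact (IsUnit.mul_left_eq_zero hu).1 h0

/-- For a derivation `δ` and an operator `D` semilinear over it, `(b D)^p` only involves `D` and `D^p`. -/
theorem iterate_prime_smul {A : Type v} {B : Type u} [CommRing A] [CommRing B] [Algebra A B] [CharP B p] (b : B)
    (δ : Derivation A B B) {N : Type w} [AddCommGroup N] [Module B N] (D : N → N)
    (hadd : ∀ x y, D (x + y) = D x + D y) (hsmul : ∀ (c : B) (x : N), D (c • x) = δ c • x + c • D x) (x : N) :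
    (fun y => b • D y)^[p] x = coef b δ p 1 • D x + coef b δ p p • D^[p] x := by
  have hp : p.Prime := Fact.out
  rw [iterate_smul_eq_sum b δ D hadd hsmul δ.map_zero p x, sum_range_succ,
    sum_eq_single_of_mem 1 (mem_range.2 hp.one_lt) fun i hi h => by rw [coef_middle p b δ i (mem_range.1 hi) h, zero_smul]]
  simp

end Groth.Agent.H84Conn
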